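import Groth.Agent.SGA3cLib.HomDS
import Groth.Agent.SGA3cLib.CartierDual
import Groth.Agent.SGA3cLib.DualTwConst
import Groth.Agent.SGA3cLib.HomTwConst
import Groth.Agent.S5427
import Mathlib.AlgebraicGeometry.AlgClosed.Basic

/-!
# The constant group `ℤ` over an algebraically closed field, as a target
-/

set_option autoImplicit false
set_option linter.style.haveILetI false
set_option backward.isDefEq.respectTransparency.types false

universe u

open CategoryTheory CategoryTheory.Limits MonoidalCategory CartesianMonoidalCategory AlgebraicGeometry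
open scoped CategoryTheory.MonObj CategoryTheory.GrpObj
open Groth.Agent.SGA3cLib

noncomputable section

namespace Groth.Agent.AlbProper27

variable (k : Type u) [Field k] [IsAlgClosed k]

theorem comm_points {S : Scheme.{u}} {M : Type} [AddCommGroup M] (X : Over S) (a b : X ⟶ Red.DS S M) : a * b = b * a :=
  dsFn_injective (MonoidHom.ext fun m => by rw [dsFn_mul, dsFn_mul]; exact mul_comm _ _)

/-- A discrete commutative group with a point that can be sent to any point of a commutative group. -/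
theorem exists_discrete_target :
    ∃ (D : Over (Spec (CommRingCat.of k))) (_ : GrpObj D) (_ : IsCommMonObj D)
      (one : 𝟙_ (Over (Spec (CommRingCat.of k))) ⟶ D),
      IsSeparated D.hom ∧ LocallyOfFiniteType D.hom ∧ DiscreteTopology D.left ∧ IsOpenImmersion η[D].left ∧
      ∀ (A : Over (Spec (CommRingCat.of k))) [GrpObj A] [IsCommMonObj A] (a : 𝟙_ (Over (Spec (CommRingCat.of k))) ⟶ A),
        ∃ ψ : D ⟶ A, IsMonHom ψ ∧ one ≫ ψ = a := by
  let U : Scheme.{u} := Spec (CommRingCat.of k)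
  let I := HomDS.Idx ℤ ℤ
  let D : Over U := TwC.const U I
  let pt : I → (𝟙_ (Over U) ⟶ D) := fun i => TwC.pt U I i
  obtain ⟨υ, hυ, hval⟩ := HomDS.exists_universal' (U := U) (M := ℤ) (N := ℤ)
  obtain ⟨inst, hmul⟩ := CartierDual.exists_grpObj (fun X a b => comm_points X a b) hυ
  letI : GrpObj D := inst
  have hinj : ∀ {T : Over U} (a b : T ⟶ D), (Red.DS U ℤ ◁ a) ≫ υ = (Red.DS U ℤ ◁ b) ≫ υ → a = b := fun {T} a b h =>
    (hυ.2 T _ (HomSheaf.isHomFamily_whisker (Red.DS U ℤ) _ b hυ.1)).unique h rfl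
  haveI : IsCommMonObj D := by
    refine ⟨?_⟩
    have h1 : fst D D * snd D D = μ[D] := by
      rw [CategoryTheory.Hom.mul_def, lift_fst_snd, Category.id_comp]
    calc (β_ D D).hom ≫ μ[D] = snd D D * fst D D := by
          rw [← h1, MonObj.comp_mul]; simp [CartesianMonoidalCategory.braiding_hom_fst, CartesianMonoidalCategory.braiding_hom_snd]
      _ = fst D D * snd D D := hinj _ _ (by rw [hmul, hmul, comm_points])
      _ = μ[D] := h1
  have hpt : ∀ i j : I, pt i * pt j = pt (i + j) := by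
    intro i j
    apply hinj
    have hv : ∀ l : I, (Red.DS U ℤ ◁ pt l) ≫ υ = fst _ _ ≫ Red.DSmap U l := fun l => by
      have h := hval l (Red.DS U ℤ ⊗ 𝟙_ (Over U)) (fst _ _) (snd _ _)
      have e : lift (fst (Red.DS U ℤ) (𝟙_ (Over U))) (snd _ _ ≫ pt l) = Red.DS U ℤ ◁ pt l :=
        CartesianMonoidalCategory.hom_ext _ _ (by simp) (by simp)
      rw [← e]; exact h
    rw [hmul, hv, hv, hv]
    refine dsFn_injective (MonoidHom.ext fun m => ?_)
    rw [dsFn_mul, S5427.dsFn_DSmap, S5427.dsFn_DSmap, S5427.dsFn_DSmap, ← map_mul]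
    rfl
  haveI hdisc : DiscreteTopology D.left := by
    refine discreteTopology_iff_isOpen_singleton.2 fun x => ?_
    obtain ⟨i, w, hw⟩ := DualTwConst.exists_pt x
    haveI := DualTwConst.isOpenImmersion_pt (U := U) i
    have e : ({x} : Set D.left) = Set.range (TwC.pt U I i).left := by
      refine Set.Subset.antisymm (Set.singleton_subset_iff.2 ⟨w, hw⟩) ?_
      rintro _ ⟨w', rfl⟩
      rw [Subsingleton.elim (α := PrimeSpectrum k) w' w, hw]
      rfl
    rw [e]
    exact (TwC.pt U I i).left.isOpenEmbedding.isOpen_range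
  haveI : LocallyOfFiniteType D.hom := (HomTwConst.props_const U I).2.2
  have hpteq : ∀ x : 𝟙_ (Over U) ⟶ D, ∃ i, x = pt i := by
    intro x
    obtain ⟨i, w, hw⟩ := DualTwConst.exists_pt (x.left (IsLocalRing.closedPoint k))
    refine ⟨i, Over.OverMorphism.ext (ext_of_apply_closedPoint_eq D.hom (Over.w x) (Over.w (pt i)) ?_)⟩
    rw [← hw]
    exact congrArg _ (Subsingleton.elim (α := PrimeSpectrum k) _ _)
  refine ⟨D, inst, inferInstance, pt (AddMonoidHom.id ℤ), HomTwConst.isSeparated_const U I, inferInstance, hdisc, ?_, ?_⟩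
  · obtain ⟨i, hi⟩ := hpteq η[D]
    rw [hi]
    exact DualTwConst.isOpenImmersion_pt i
  intro A _ _ a
  let ψ : D ⟶ A := Over.homMk (Sigma.desc fun i : I => (a ^ (i 1 : ℤ)).left)
    (Sigma.hom_ext _ _ fun i => by
      rw [Sigma.ι_desc_assoc, Over.w (a ^ (i 1 : ℤ))]
      exact (Sigma.ι_desc (fun _ : I => 𝟙 U) i).symm)
  have hψ : ∀ i, pt i ≫ ψ = a ^ (i 1 : ℤ) := fun i => Over.OverMorphism.ext (Sigma.ι_desc _ _)
  refine ⟨ψ, BCPoints.isMonHom_of_mul ψ fun T x y => ?_, ?_⟩
  · refine DualTwConst.eq_of_local _ _ fun t => ?_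
    obtain ⟨V, i, hV, hx⟩ := DualTwConst.exists_restr x t
    obtain ⟨V', j, hV', hy⟩ := DualTwConst.exists_restr y t
    let r₁ : HomScheme.restr T (V ⊓ V') ⟶ HomScheme.restr T V := Over.homMk (T.left.homOfLE inf_le_left) (by simp)
    let r₂ : HomScheme.restr T (V ⊓ V') ⟶ HomScheme.restr T V' := Over.homMk (T.left.homOfLE inf_le_right) (by simp)
    have e₁ : r₁ ≫ HomScheme.restrHom T V = HomScheme.restrHom T (V ⊓ V') :=
      Over.OverMorphism.ext (T.left.homOfLE_ι (inf_le_left : V ⊓ V' ≤ V))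
    have e₂ : r₂ ≫ HomScheme.restrHom T V' = HomScheme.restrHom T (V ⊓ V') :=
      Over.OverMorphism.ext (T.left.homOfLE_ι (inf_le_right : V ⊓ V' ≤ V'))
    refine ⟨V ⊓ V', ⟨hV, hV'⟩, ?_⟩
    have fx : HomScheme.restrHom T (V ⊓ V') ≫ x = toUnit _ ≫ pt i := by
      rw [← e₁, Category.assoc, hx, ← Category.assoc, toUnit_unique (r₁ ≫ toUnit _) (toUnit _)]
    have fy : HomScheme.restrHom T (V ⊓ V') ≫ y = toUnit _ ≫ pt j := by
      rw [← e₂, Category.assoc, hy, ← Category.assoc, toUnit_unique (r₂ ≫ toUnit _) (toUnit _)]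
    rw [← Category.assoc, MonObj.comp_mul, fx, fy, ← MonObj.comp_mul, hpt, Category.assoc, hψ, MonObj.comp_mul,
      ← Category.assoc, ← Category.assoc, fx, fy, Category.assoc, Category.assoc, hψ, hψ, ← MonObj.comp_mul,
      ← zpow_add]
    rfl
  · rw [hψ]; exact zpow_one a

end Groth.Agent.AlbProper27
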