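import Groth.Prelude.Def_AlgGrp
import Groth.Prelude.Def_Red
import Groth.Agent.AlgGrpLib.GeneratedSubgroup
import Groth.Agent.AbVarLib.AlgClosedIntegral
import Groth.Agent.AbVarLib.MulIsogeny
import Groth.Agent.DualLib.GorApps
import Groth.Agent.SGA3cLib.SubgroupClosed

/-!
# The subgroup generated by a proper variety is proper
-/

set_option autoImplicit false
set_option linter.style.haveILetI false
set_option backward.isDefEq.respectTransparency.types false

universe u

open CategoryTheory CategoryTheory.Limits MonoidalCategory CartesianMonoidalCategory AlgebraicGeometry TopologicalSpace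
open scoped CategoryTheory.MonObj CategoryTheory.GrpObj
open Groth.Agent.AlgGrpLib.Generated

namespace Groth.Agent.AlbProper27

variable (k : Type u) [Field k] [IsAlgClosed k]

/-- A monotone sequence of irreducible closed sets through a point of a scheme locally of finite type is eventually
constant. -/
theorem exists_stable {A : Scheme.{u}} (f : A ⟶ Spec (CommRingCat.of k)) [LocallyOfFiniteType f] (Y : ℕ → Set A)
    (hc : ∀ n, IsClosed (Y n)) (hi : ∀ n, IsIrreducible (Y n)) (hm : Monotone Y) (a : A) (ha : a ∈ Y 0) :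
    ∃ N, ∀ n, Y n ⊆ Y N := by
  obtain ⟨W, hW, haW, -⟩ := exists_isAffineOpen_mem_and_subset (x := a) (U := (⊤ : A.Opens)) trivial
  haveI : IsAffine (W : Scheme.{u}) := hW
  let R := Γ((W : Scheme.{u}), ⊤)
  let g : CommRingCat.of k ⟶ R := Spec.preimage ((W : Scheme.{u}).isoSpec.inv ≫ W.ι ≫ f)
  letI : Algebra k R := g.hom.toAlgebra
  haveI : Algebra.FiniteType k R := by
    have h : LocallyOfFiniteType (Spec.map g) := by rw [Spec.map_preimage]; infer_instance
    exact (HasRingHomProperty.Spec_iff (P := @LocallyOfFiniteType)).1 h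
  let e : (W : Scheme.{u}) ≃ₜ PrimeSpectrum R := (W : Scheme.{u}).isoSpec.hom.homeomorph
  have hdim : topologicalKrullDim (W : Scheme.{u}) < ⊤ := by
    rw [IsHomeomorph.topologicalKrullDim_eq e e.isHomeomorph, PrimeSpectrum.topologicalKrullDim_eq_ringKrullDim]
    exact DualLib.ringKrullDim_lt_top_of_finiteType_field k R
  let y : ℕ → IrreducibleCloseds (W : Scheme.{u}) := fun n =>
    { carrier := W.ι ⁻¹' Y n
      isIrreducible' := (hi n).preimage W.ι.isOpenEmbedding ⟨a, hm (Nat.zero_le n) ha, ⟨a, haW⟩, rfl⟩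
      isClosed' := (hc n).preimage W.ι.continuous }
  by_contra hcon
  push_neg at hcon
  choose g' hg' using hcon
  have hlt : ∀ N, ∃ M, y N < y M := by
    intro N
    refine ⟨max N (g' N), lt_of_le_of_ne (Set.preimage_mono (hm (le_max_left N (g' N))) : W.ι ⁻¹' Y N ⊆ W.ι ⁻¹' Y (max N (g' N))) fun h => ?_⟩
    apply hg' N
    intro z hz
    have hz' : z ∈ Y (max N (g' N)) := hm (le_max_right _ _) hz
    have hden : Y (max N (g' N)) ⊆ closure (Y (max N (g' N)) ∩ W) :=
      subset_closure_inter_of_isPreirreducible_of_isOpen (hi _).2 W.isOpen ⟨a, hm (Nat.zero_le _) ha, haW⟩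
    refine (hc N).closure_subset_iff.2 ?_ (hden hz')
    rintro w ⟨hw, hwW⟩
    have h2 : (⟨w, hwW⟩ : (W : Scheme.{u})) ∈ W.ι ⁻¹' Y N := (congrArg IrreducibleCloseds.carrier h).ge hw
    exact h2
  have hser : ∀ d : ℕ, ∃ s : LTSeries (IrreducibleCloseds (W : Scheme.{u})), s.length = d ∧ ∃ N, s.last = y N := by
    intro d
    induction d with
    | zero => exact ⟨RelSeries.singleton _ (y 0), rfl, 0, rfl⟩
    | succ d ih =>
      obtain ⟨s, hs, N, hN⟩ := ih
      obtain ⟨M, hM⟩ := hlt N
      exact ⟨s.snoc (y M) (hN ▸ hM), by simp [hs], M, RelSeries.last_snoc _ _ _⟩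
  have : topologicalKrullDim (W : Scheme.{u}) = ⊤ := by
    refine eq_top_iff.2 ?_
    have : InfiniteDimensionalOrder (IrreducibleCloseds (W : Scheme.{u})) := ⟨fun d => by
      obtain ⟨s, hs, -⟩ := hser d
      exact ⟨s, hs⟩⟩
    rw [topologicalKrullDim, Order.krullDim_eq_top]
  exact hdim.ne this

/-- A product of varieties is a variety. -/
theorem isIntegral_prod (A B : Over (Spec (CommRingCat.of k))) [IsIntegral A.left] [IsIntegral B.left]
    [LocallyOfFiniteType A.hom] [LocallyOfFiniteType B.hom] : IsIntegral (A ⊗ B).left := by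
  haveI := AbVarLib.geometricallyIntegral_of_isAlgClosed B.hom
  haveI : IsLocallyNoetherian A.left := LocallyOfFiniteType.isLocallyNoetherian A.hom
  haveI : IsLocallyNoetherian (pullback A.hom B.hom) := LocallyOfFiniteType.isLocallyNoetherian (pullback.fst A.hom B.hom)
  show IsIntegral (pullback A.hom B.hom)
  haveI : IrreducibleSpace (pullback A.hom B.hom :) :=
    GeometricallyIrreducible.irreducibleSpace (pullback.fst A.hom B.hom) (pullback.fst A.hom B.hom).isOpenMap
  haveI : IsReduced (pullback A.hom B.hom) :=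
    GeometricallyReduced.isReduced_of_flat_of_isLocallyNoetherian (pullback.fst A.hom B.hom)
  exact isIntegral_of_irreducibleSpace_of_isReduced _

/-- Powers of a proper variety are proper varieties. -/
theorem props_pow (X : Over (Spec (CommRingCat.of k))) [IsIntegral X.left] [IsProper X.hom] :
    ∀ n, IsProper (Pow X n).hom ∧ IsIntegral (Pow X n).left
  | 0 => ⟨inferInstanceAs (IsProper (𝟙 _)), inferInstanceAs (IsIntegral (Spec (CommRingCat.of k)))⟩
  | n + 1 => by
    obtain ⟨h1, h2⟩ := props_pow X n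
    exact ⟨inferInstanceAs (IsProper (pullback.fst X.hom (Pow X n).hom ≫ X.hom)),
      show IsIntegral (X ⊗ Pow X n).left from isIntegral_prod k X (Pow X n)⟩

/-- The subgroup generated by the differences of points of a proper variety is an abelian variety. -/
theorem exists_proper_generated (A : Over (Spec (CommRingCat.of k))) [GrpObj A] [IsCommMonObj A] [IsSeparated A.hom]
    [LocallyOfFiniteType A.hom] (X : Over (Spec (CommRingCat.of k))) [IsIntegral X.left] [IsProper X.hom]
    (x₀ : 𝟙_ (Over (Spec (CommRingCat.of k))) ⟶ X) (u : X ⟶ A) :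
    ∃ (H : Over (Spec (CommRingCat.of k))) (_ : GrpObj H) (_ : IsCommMonObj H) (i : H ⟶ A) (u' : X ⟶ H),
      IsMonHom i ∧ IsClosedImmersion i.left ∧ IsProper H.hom ∧ Smooth H.hom ∧ ConnectedSpace H.left ∧
      u' ≫ i = u * (toUnit X ≫ x₀ ≫ u)⁻¹ := by
  let X₂ := X ⊗ X
  haveI : IsProper X₂.hom := inferInstanceAs (IsProper (pullback.fst X.hom X.hom ≫ X.hom))
  haveI : IsIntegral X₂.left := isIntegral_prod k X X
  haveI := AbVarLib.geometricallyIntegral_of_isAlgClosed X₂.hom
  let φ : X₂ ⟶ A := (fst X X ≫ u) * (snd X X ≫ u)⁻¹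
  have hinv : Set.range (φ ≫ ι[A]).left.base ⊆ Set.range φ.left.base := by
    have e : φ ≫ ι[A] = (lift (snd X X) (fst X X)) ≫ φ := by
      rw [GrpObj.inv_eq_inv, GrpObj.comp_inv, Category.comp_id, MonObj.comp_mul, GrpObj.comp_inv, lift_fst_assoc, lift_snd_assoc, _root_.mul_inv_rev,
        inv_inv]
    rw [e]
    rintro _ ⟨z, rfl⟩
    exact ⟨_, rfl⟩
  obtain ⟨H, instH, i, hi, hci, hgr, hred, hrange, φ', hφ'⟩ := exists_generated φ hinv
  haveI : Mono i := Over.mono_of_mono_left i
  haveI : IsCommMonObj H := ⟨by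
    rw [← cancel_mono i, Category.assoc, IsMonHom.mul_hom, ← BraidedCategory.braiding_naturality_assoc, IsCommMonObj.mul_comm]⟩
  have h0 : ∃ z, φ.left z = (η[A]).left (IsLocalRing.closedPoint k) := by
    refine ⟨(lift x₀ x₀).left (IsLocalRing.closedPoint k), ?_⟩
    have e : lift x₀ x₀ ≫ φ = η[A] := by
      rw [MonObj.comp_mul, GrpObj.comp_inv, lift_fst_assoc, lift_snd_assoc, mul_inv_cancel, MonObj.one_eq_one]
    rw [← e]
    rfl
  let Y : ℕ → Set A.left := fun n => Set.range (powProd φ n).left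
  have hYc : ∀ n, IsClosed (Y n) := fun n => by
    haveI := (props_pow k X₂ n).1
    haveI : IsProper ((powProd φ n).left ≫ A.hom) := by rw [Over.w]; infer_instance
    haveI : IsProper (powProd φ n).left := IsProper.of_comp _ A.hom
    exact (powProd φ n).left.isClosedMap.isClosed_range
  have hYi : ∀ n, IsIrreducible (Y n) := fun n => by
    haveI := (props_pow k X₂ n).2
    exact IsIrreducible.image (IrreducibleSpace.isIrreducible_univ _) _ (powProd φ n).left.continuous.continuousOn
      |> fun h => by rwa [Set.image_univ] at h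
  have hYm : Monotone Y := monotone_nat_of_le_succ fun n => by
    rintro _ ⟨z, rfl⟩
    obtain ⟨p, hp⟩ : ∃ p : Pow X₂ n ⟶ Pow X₂ (n + 1), p ≫ powProd φ (n + 1) = powProd φ n := by
      refine ⟨lift (toUnit _ ≫ lift x₀ x₀) (𝟙 _), ?_⟩
      have e : lift x₀ x₀ ≫ φ = 1 := by
        rw [MonObj.comp_mul, GrpObj.comp_inv, lift_fst_assoc, lift_snd_assoc, mul_inv_cancel]
      show lift _ _ ≫ ((fst X₂ (Pow X₂ n) ≫ φ) * (snd X₂ (Pow X₂ n) ≫ powProd φ n)) = _
      rw [MonObj.comp_mul, lift_fst_assoc, lift_snd_assoc, Category.assoc, e, MonObj.comp_one, Category.id_comp,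
        _root_.one_mul]
    exact ⟨p.left z, by rw [← hp]; rfl⟩
  have hY0 : (η[A]).left (IsLocalRing.closedPoint k) ∈ Y 0 :=
    ⟨IsLocalRing.closedPoint k, by
      show (1 : 𝟙_ (Over (Spec (CommRingCat.of k))) ⟶ A).left _ = _
      rw [MonObj.one_eq_one]⟩
  obtain ⟨N, hN⟩ := exists_stable k A.hom Y hYc hYi hYm _ hY0
  have hR : Set.range i.left = Y N := by
    refine hrange.trans ?_
    rw [productPoints_eq]
    exact Set.Subset.antisymm ((hYc N).closure_subset_iff.2 (Set.iUnion_subset hN))
      ((Set.subset_iUnion Y N).trans subset_closure)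
  haveI : IrreducibleSpace H.left := by
    refine (irreducibleSpace_def _).2 ?_
    refine ⟨?_, ?_⟩
    · obtain ⟨z, hz⟩ := (hYi N).1
      obtain ⟨w, -⟩ := hR.ge hz
      exact ⟨w, trivial⟩
    · intro U V hU hV hUn hVn
      obtain ⟨U', hU', rfl⟩ := i.left.isEmbedding.toIsInducing.isOpen_iff.1 hU
      obtain ⟨V', hV', rfl⟩ := i.left.isEmbedding.toIsInducing.isOpen_iff.1 hV
      obtain ⟨x, -, hx⟩ := hUn
      obtain ⟨y, -, hy⟩ := hVn
      obtain ⟨z, hz, hzu, hzv⟩ := (hYi N).2 U' V' hU' hV' ⟨_, hR.le ⟨x, rfl⟩, hx⟩ ⟨_, hR.le ⟨y, rfl⟩, hy⟩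
      obtain ⟨w, rfl⟩ := hR.ge hz
      exact ⟨w, trivial, hzu, hzv⟩
  haveI : LocallyOfFiniteType H.hom := by rw [← Over.w i]; infer_instance
  haveI : IsSeparated H.hom := by rw [← Over.w i]; infer_instance
  haveI : IsProper H.hom := by
    haveI := (props_pow k X₂ N).1
    haveI := (props_pow k X₂ N).2
    obtain ⟨g, hg⟩ := RedSepLib.exists_lift_of_range_subset (powProd φ N).left i.left hR.ge
    haveI : Surjective g := ⟨fun h => by
      obtain ⟨z, hz⟩ := hR.le ⟨h, rfl⟩
      exact ⟨z, i.left.isEmbedding.injective (by rw [← Scheme.Hom.comp_apply, hg, hz])⟩⟩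
    haveI : UniversallyClosed (g ≫ H.hom) := by
      have e : g ≫ H.hom = (Pow X₂ N).hom := by rw [← Over.w i, ← Category.assoc, hg, Over.w]
      rw [e]; infer_instance
    haveI : UniversallyClosed H.hom := UniversallyClosed.of_comp_surjective g H.hom
    exact {}
  haveI : LocallyOfFinitePresentation H.hom := inferInstance
  have hsm : Smooth H.hom := AbVarLib.smooth_of_geometricallyReduced (X := H)
  refine ⟨H, instH, inferInstance, i, lift (𝟙 X) (toUnit X ≫ x₀) ≫ φ', hi, hci, inferInstance, hsm, inferInstance, ?_⟩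
  rw [Category.assoc, hφ', MonObj.comp_mul, GrpObj.comp_inv, lift_fst_assoc, lift_snd_assoc, Category.id_comp,
    Category.assoc]

end Groth.Agent.AlbProper27
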