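import Groth.Agent.AlbProper27.DiscreteTarget
import Groth.Agent.AlbProper27.ProperGenerated
import Groth.Agent.UnipStruct.Unip

/-!
# The neutral component of the universal commutative group of a proper variety is proper
-/

set_option autoImplicit false
set_option linter.style.haveILetI false
set_option backward.isDefEq.respectTransparency.types false

universe u

open CategoryTheory CategoryTheory.Limits MonoidalCategory CartesianMonoidalCategory AlgebraicGeometry TopologicalSpace
open scoped CategoryTheory.MonObj CategoryTheory.GrpObj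

namespace Groth.Agent.AlbProper27

theorem isIso_DS_zero_hom (S : Scheme.{u}) : IsIso (Red.DS S (Fin 0 → ℤ)).hom := by
  haveI : IsIso (Red.diag (ULift.{u} ℤ) (Fin 0 → ℤ)).hom := by
    show IsIso (Spec.map (CommRingCat.ofHom (algebraMap (ULift.{u} ℤ) (MonoidAlgebra (ULift.{u} ℤ) (Multiplicative (Fin 0 → ℤ))))))
    have : IsIso (CommRingCat.ofHom (algebraMap (ULift.{u} ℤ) (MonoidAlgebra (ULift.{u} ℤ) (Multiplicative (Fin 0 → ℤ))))) :=
      (ConcreteCategory.isIso_iff_bijective _).2
        (MonoidAlgebra.uniqueAlgEquiv (ULift.{u} ℤ) (Multiplicative (Fin 0 → ℤ)) (A := ULift.{u} ℤ)).symm.bijective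
    infer_instance
  exact inferInstanceAs (IsIso (pullback.snd _ _))

/-- The trivial group is a torus. -/
theorem isTorus_unit (S : Scheme.{u}) : Red.IsTorus (𝟙_ (Over S)) := by
  refine ⟨S, 𝟙 S, inferInstance, inferInstance, fun V hV => ⟨V, hV.isCompact, by simp⟩,
    fun s => ⟨⊤, trivial, 0, ?_⟩⟩
  let j := (⊤ : S.Opens).ι ≫ 𝟙 S
  haveI h1 : IsIso (Red.bc j (𝟙_ (Over S))).hom := inferInstanceAs (IsIso (pullback.snd (𝟙 S) j))
  haveI h2 := isIso_DS_zero_hom (⊤ : S.Opens).toScheme
  let A := Red.bc j (𝟙_ (Over S))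
  let B := Red.DS (⊤ : S.Opens).toScheme (Fin 0 → ℤ)
  let e : A ≅ B := Over.isoMk (asIso A.hom ≪≫ (asIso B.hom).symm) (by simp)
  haveI : Subsingleton (A ⊗ A ⟶ B) := ⟨fun f g => Over.OverMorphism.ext (by
    rw [← cancel_mono B.hom, Over.w f, Over.w g])⟩
  haveI : Subsingleton (𝟙_ _ ⟶ B) := ⟨fun f g => Over.OverMorphism.ext (by
    rw [← cancel_mono B.hom, Over.w f, Over.w g])⟩
  haveI : IsMonHom e.hom := { one_hom := Subsingleton.elim _ _, mul_hom := Subsingleton.elim _ _ }
  exact ⟨Grp.mkIso' e⟩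

variable (k : Type u) [Field k] [IsAlgClosed k]

/-- Properness of the neutral component of a universal extension of an abelian variety by a torus. -/
theorem isProper_neutral (X : Over (Spec (CommRingCat.of k))) [IsIntegral X.left] [IsProper X.hom]
    (A : Over (Spec (CommRingCat.of k))) [GrpObj A] [IsCommMonObj A] [IsSeparated A.hom] [LocallyOfFiniteType A.hom]
    (A0 : Over (Spec (CommRingCat.of k))) [GrpObj A0] (e₀ : A0 ⟶ A) [IsMonHom e₀] [IsOpenImmersion e₀.left]
    [ConnectedSpace A0.left]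
    (u : X ⟶ A) (hid : ∀ h : A ⟶ A, IsMonHom h → u ≫ h = u → h = 𝟙 A)
    (huniv : ∀ (G : Over (Spec (CommRingCat.of k))) [GrpObj G] [IsCommMonObj G] [IsSeparated G.hom] [LocallyOfFiniteType G.hom]
      (G0 : Over (Spec (CommRingCat.of k))) [GrpObj G0] (e : G0 ⟶ G) [IsMonHom e] [IsOpenImmersion e.left]
      [ConnectedSpace ↥G0.left]
      (T : Over (Spec (CommRingCat.of k))) [GrpObj T] (i : T ⟶ G0) [IsMonHom i] [IsClosedImmersion i.left]
      (_ : Red.IsTorus T)
      (B : Over (Spec (CommRingCat.of k))) [GrpObj B] [IsProper B.hom] [Smooth B.hom] [ConnectedSpace ↥B.left]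
      (q : G0 ⟶ B) [IsMonHom q] [Surjective q.left] [Flat q.left] (_ : AlgGrp.IsKernel i q)
      (φ : X ⟶ G), ∃! h : A ⟶ G, IsMonHom h ∧ u ≫ h = φ) :
    IsProper A0.hom := by
  haveI : IsLocallyNoetherian X.left := LocallyOfFiniteType.isLocallyNoetherian X.hom
  haveI : JacobsonSpace X.left := LocallyOfFiniteType.jacobsonSpace X.hom
  obtain ⟨z, -, hz⟩ := nonempty_inter_closedPoints (Z := (Set.univ : Set X.left)) ⟨genericPoint X.left, trivial⟩
    isClosed_univ.isLocallyClosed
  let x₀ : 𝟙_ (Over (Spec (CommRingCat.of k))) ⟶ X :=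
    Over.homMk (pointOfClosedPoint X.hom z hz) (pointOfClosedPoint_comp _ _ _)
  obtain ⟨H, instH, hHc, i, u', hi, hci, hHp, hHs, hHconn, hu'⟩ := exists_proper_generated k A X x₀ u
  obtain ⟨D, instD, hDc, one, hDsep, hDlft, hDdisc, hDη, hψ⟩ := exists_discrete_target k
  obtain ⟨ψ, hψm, hψ1⟩ := hψ A (x₀ ≫ u)
  let G := H ⊗ D
  haveI : IsSeparated G.hom := inferInstanceAs (IsSeparated (pullback.fst H.hom D.hom ≫ H.hom))
  haveI : LocallyOfFiniteType G.hom := inferInstanceAs (LocallyOfFiniteType (pullback.fst H.hom D.hom ≫ H.hom))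
  let e : H ⟶ G := lift (𝟙 H) 1
  haveI : IsMonHom e := Groth.Agent.SGA3cLib.BCPoints.isMonHom_of_mul e fun W x y => by
    apply CartesianMonoidalCategory.hom_ext
    · simp [e, MonObj.mul_comp]
    · simp [e, MonObj.mul_comp]
  haveI : IsOpenImmersion e.left := by
    have sq : IsPullback e (toUnit H) (snd H D) η[D] := by
      refine IsPullback.of_isLimit' ⟨by rw [lift_snd, Hom.one_def]⟩ (PullbackCone.IsLimit.mk _
        (fun c => c.fst ≫ fst H D) (fun c => ?_) (fun c => toUnit_unique _ _) fun c m h1 _ => ?_)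
      · apply CartesianMonoidalCategory.hom_ext
        · simp [e]
        · rw [Category.assoc, Category.assoc, lift_snd, c.condition, MonObj.comp_one, MonObj.comp_one, Hom.one_def,
            toUnit_unique c.snd]
      · rw [← h1]; simp [e]
    exact MorphismProperty.of_isPullback (P := @IsOpenImmersion) ((Over.forget _).map_isPullback sq.flip) hDη
  have hTor := isTorus_unit (Spec (CommRingCat.of k))
  haveI : IsClosedImmersion (η[H]).left :=
    SGA3xLib.isClosedImmersion_of_section H.hom (η[H]).left (Over.w η[H])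
  haveI : IsMonHom (η[H]) := Groth.Agent.SGA3cLib.BCPoints.isMonHom_of_mul _ fun W x y => by
    simp only [MonObj.one_eq_one, MonObj.comp_one, _root_.mul_one]
  haveI : Surjective (𝟙 H : H ⟶ H).left := inferInstanceAs (Surjective (𝟙 H.left))
  haveI : Flat (𝟙 H : H ⟶ H).left := inferInstanceAs (Flat (𝟙 H.left))
  obtain ⟨h, ⟨hhom, hh⟩, -⟩ := huniv G H e (𝟙_ _) η[H] hTor H (𝟙 H)
    (by
      haveI : IsIso (toUnit (𝟙_ (Over (Spec (CommRingCat.of k))))) := by
        rw [toUnit_unique (toUnit (𝟙_ (Over (Spec (CommRingCat.of k))))) (𝟙 _)]; infer_instance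
      exact IsPullback.of_vert_isIso ⟨by rw [Category.comp_id, toUnit_unique (toUnit (𝟙_ (Over (Spec (CommRingCat.of k))))) (𝟙 _), Category.id_comp]⟩)
    (lift u' (toUnit X ≫ one))
  let β : G ⟶ A := (fst H D ≫ i) * (snd H D ≫ ψ)
  haveI : IsMonHom β := Groth.Agent.SGA3cLib.BCPoints.isMonHom_of_mul β fun W x y => by
    simp only [β, MonObj.comp_mul, ← Category.assoc, MonObj.mul_comp]
    exact mul_mul_mul_comm _ _ _ _
  have hβ : h ≫ β = 𝟙 A := by
    refine hid _ inferInstance ?_
    rw [← Category.assoc, hh, MonObj.comp_mul, lift_fst_assoc, lift_snd_assoc, hu', Category.assoc, hψ1,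
      inv_mul_cancel_right]
  -- the discrete coordinate is trivial on the neutral component
  have hd : e₀ ≫ h ≫ snd H D = 1 := by
    haveI := hDdisc
    let f := e₀ ≫ h ≫ snd H D
    have hr : Set.range f.left ⊆ Set.range η[D].left := by
      rintro _ ⟨a, rfl⟩
      refine ⟨IsLocalRing.closedPoint k, ?_⟩
      have h1 : η[A0] ≫ f = η[D] := IsMonHom.one_hom f
      rw [← h1]
      exact (isPreconnected_univ.constant f.left.continuous.continuousOn (Set.mem_univ _) (Set.mem_univ _))
    apply Over.OverMorphism.ext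
    haveI := hDη
    have hl := IsOpenImmersion.lift_fac η[D].left f.left hr
    have hu : IsOpenImmersion.lift η[D].left f.left hr = (toUnit A0).left := by
      have h2 := congrArg (· ≫ D.hom) hl
      simp only [Category.assoc, Over.w] at h2
      exact (Category.comp_id _).symm.trans (h2.trans ((Category.comp_id _).symm.trans (Over.w (toUnit A0))).symm)
    show f.left = _
    rw [← hl, hu, Hom.one_def]
    rfl
  let j : A0 ⟶ H := e₀ ≫ h ≫ fst H D
  have hj : j ≫ i = e₀ := by
    conv_rhs => rw [← Category.comp_id e₀, ← hβ]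
    rw [MonObj.comp_mul, MonObj.comp_mul, ← Category.assoc e₀ h, ← Category.assoc h, ← Category.assoc e₀]
    have h2 : e₀ ≫ h ≫ snd H D ≫ ψ = 1 := by
      rw [← Category.assoc h, ← Category.assoc e₀, hd, MonObj.one_comp]
    simp only [Category.assoc] at h2 ⊢
    rw [h2, _root_.mul_one]
    simp [j]
  haveI : IsOpenImmersion j.left := by
    haveI : Mono i.left := inferInstance
    have sq : IsPullback j.left (𝟙 A0.left) i.left e₀.left := by
      refine IsPullback.of_isLimit' ⟨by rw [Category.id_comp, ← hj]; rfl⟩ (PullbackCone.IsLimit.mk _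
        (fun c => c.snd) (fun c => ?_) (fun c => Category.comp_id _) fun c m _ h2 => by simpa using h2)
      rw [← cancel_mono i.left, Category.assoc, ← Over.comp_left, hj]
      exact c.condition.symm
    exact MorphismProperty.of_isPullback (P := @IsOpenImmersion) sq.flip inferInstance
  haveI : IsMonHom j := inferInstanceAs (IsMonHom (e₀ ≫ h ≫ fst H D))
  have hclosed := SGA3cLib.isClosed_range_of_isImmersion j
  have huniv' : Set.range j.left = Set.univ :=
    (IsClopen.eq_univ ⟨hclosed, j.left.isOpenEmbedding.isOpen_range⟩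
      ⟨_, ⟨(η[A0]).left (IsLocalRing.closedPoint k), rfl⟩⟩)
  haveI : Surjective j.left := ⟨Set.range_eq_univ.1 huniv'⟩
  haveI : IsIso j.left := (isIso_iff_isOpenImmersion_and_epi_base _).2 ⟨inferInstance, (TopCat.epi_iff_surjective _).2 j.left.surjective⟩
  rw [← Over.w j]
  infer_instance

end Groth.Agent.AlbProper27
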